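import Cfsg.Agent.H746.PrimElem

/-!
# Task v1 for S4166 (helper746, for helper532)
-/

set_option autoImplicit false
set_option linter.style.haveILetI false
set_option linter.unusedSectionVars false

namespace Cfsg.Agent.H746.PrimElem

open Module

variable {t a l : ℕ} [Fact t.Prime] {V : Type*} [AddCommGroup V] [Module (ZMod t) V] [Finite V]
  {x : V ≃ₗ[ZMod t] V}

/-- The data of the field. -/
structure FieldData (x : V ≃ₗ[ZMod t] V) (L : Type) [Field L] [Algebra (ZMod t) L] where
  ι : L →ₐ[ZMod t] Module.End (ZMod t) V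
  comm : ∀ f v, ι f (x v) = x (ι f v)
  surj : ∀ c : Module.End (ZMod t) V, (∀ v, c (x v) = x (c v)) → ∃ f, ι f = c
  inj : ∀ f v, v ≠ 0 → ι f v = 0 → f = 0

variable {L : Type} [Field L] [Algebra (ZMod t) L]

theorem FieldData.injective [Nontrivial V] (D : FieldData x L) : Function.Injective D.ι := by
  intro f g hfg
  obtain ⟨v₀, hv₀⟩ := exists_ne (0 : V)
  exact sub_eq_zero.1 (D.inj _ v₀ hv₀ (by rw [map_sub, hfg, sub_self, LinearMap.zero_apply]))

/-- `x` commutes with what `z x z⁻¹` commutes with. -/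
theorem Prim.mem_zpowers_conj (h : Prim t a l x) {z : V ≃ₗ[ZMod t] V} (hz : z * x * z⁻¹ ∈ Subgroup.zpowers x) :
    x ∈ Subgroup.zpowers (z * x * z⁻¹) := by
  have h1 : Subgroup.zpowers (z * x * z⁻¹) ≤ Subgroup.zpowers x := by
    rw [Subgroup.zpowers_le]; exact hz
  have h2 : orderOf (z * x * z⁻¹) = orderOf x := by
    have := (SemiconjBy.conj_mk z x).orderOf_eq
    exact this.symm
  haveI : Finite (V ≃ₗ[ZMod t] V) := DFunLike.finite _
  have h3 : Subgroup.zpowers (z * x * z⁻¹) = Subgroup.zpowers x := by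
    apply Subgroup.eq_of_le_of_card_ge h1
    rw [Nat.card_zpowers, Nat.card_zpowers, h2]
  rw [h3]
  exact Subgroup.mem_zpowers x

/-- Conjugation by a normalizing element. -/
theorem exists_conj (h : Prim t a l x) (D : FieldData x L) {z : V ≃ₗ[ZMod t] V}
    (hz : z * x * z⁻¹ ∈ Subgroup.zpowers x) :
    ∃ φ : L →ₐ[ZMod t] L, ∀ f v, D.ι (φ f) (z v) = z (D.ι f v) := by
  haveI := h.nontrivial
  obtain ⟨k, hk⟩ := h.mem_zpowers_conj hz
  have hcom : ∀ f, ∃ g, D.ι g = (z : V →ₗ[ZMod t] V) * D.ι f * ((z⁻¹ : V ≃ₗ[ZMod t] V) : V →ₗ[ZMod t] V) := by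
    intro f
    apply D.surj
    intro v
    -- the units
    by_cases hf : f = 0
    · rw [hf, map_zero, mul_zero, zero_mul, LinearMap.zero_apply, LinearMap.zero_apply, map_zero]
    · have hinj : Function.Injective (D.ι f) := by
        rw [← LinearMap.ker_eq_bot, LinearMap.ker_eq_bot']
        intro w hw
        by_contra hw0
        exact hf (D.inj f w hw0 hw)
      let c : V ≃ₗ[ZMod t] V := LinearEquiv.ofInjectiveEndo (D.ι f) hinj
      have hc : ∀ w, c w = D.ι f w := fun w => rfl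
      have h1 : Commute c x := by
        change c * x = x * c
        apply LinearEquiv.ext
        intro w
        rw [LinearEquiv.mul_apply, LinearEquiv.mul_apply, hc, hc, D.comm]
      have h2 : Commute (z * c * z⁻¹) (z * x * z⁻¹) := by
        change z * c * z⁻¹ * (z * x * z⁻¹) = z * x * z⁻¹ * (z * c * z⁻¹)
        have : c * x = x * c := h1
        calc z * c * z⁻¹ * (z * x * z⁻¹) = z * (c * x) * z⁻¹ := by group
          _ = z * (x * c) * z⁻¹ := by rw [this]
          _ = _ := by group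
      have h3 : Commute (z * c * z⁻¹) x := by
        have := h2.zpow_right k
        change (z * x * z⁻¹) ^ k = x at hk
        rwa [hk] at this
      have h4 := LinearEquiv.congr_fun h3 v
      exact h4
  choose φ hφ using hcom
  have hφ' : ∀ f v, D.ι (φ f) (z v) = z (D.ι f v) := by
    intro f v
    rw [hφ, Module.End.mul_apply, Module.End.mul_apply]
    have : ((z⁻¹ : V ≃ₗ[ZMod t] V) : V →ₗ[ZMod t] V) (z v) = v := by
      change z⁻¹ (z v) = v
      rw [← LinearEquiv.mul_apply, inv_mul_cancel]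
      rfl
    rw [this]
    rfl
  have key : ∀ f g, (∀ v, D.ι f (z v) = D.ι g (z v)) → f = g := by
    intro f g hfg
    apply D.injective
    apply LinearMap.ext
    intro v
    obtain ⟨w, rfl⟩ := z.surjective v
    exact hfg w
  refine ⟨{ toFun := φ, map_one' := ?_, map_mul' := ?_, map_zero' := ?_, map_add' := ?_, commutes' := ?_ }, hφ'⟩
  · apply key
    intro v
    rw [hφ', map_one]
    rfl
  · intro f g
    apply key
    intro v
    rw [hφ', map_mul, map_mul, Module.End.mul_apply, Module.End.mul_apply, hφ', hφ']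
  · apply key
    intro v
    rw [hφ', map_zero]
    simp
  · intro f g
    apply key
    intro v
    rw [hφ', map_add, map_add, LinearMap.add_apply, LinearMap.add_apply, hφ', hφ', map_add]
  · intro r
    apply key
    intro v
    rw [hφ']
    have : ∀ w, D.ι (algebraMap (ZMod t) L r) w = r • w := by
      intro w
      rw [AlgHom.commutes]
      rfl
    rw [this, this, map_smul]

/-- The field is one-dimensional on `V`. -/
theorem Prim.finrank_L (h : Prim t a l x) (D : FieldData x L) {v₀ : V} (hv₀ : v₀ ≠ 0) :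
    finrank (ZMod t) L = a ∧ ∀ v, ∃ f, D.ι f v₀ = v := by
  let ev : L →ₗ[ZMod t] V := (LinearMap.applyₗ v₀).comp D.ι.toLinearMap
  have hev : ∀ f, ev f = D.ι f v₀ := fun f => rfl
  obtain ⟨ξ, hξ⟩ := D.surj (x : V →ₗ[ZMod t] V) (fun v => rfl)
  have hinj : Function.Injective ev := by
    intro f g hfg
    have h1 : ev (f - g) = 0 := by rw [map_sub, hfg, sub_self]
    exact sub_eq_zero.1 (D.inj _ v₀ hv₀ h1)
  have h1 := h.irr (U := LinearMap.range ev) (by
    rintro _ ⟨f, rfl⟩
    refine ⟨ξ * f, ?_⟩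
    rw [hev, map_mul, hξ, hev]
    rfl)
  have h2 : LinearMap.range ev = ⊤ := by
    rcases h1 with h1 | h1
    · exfalso
      apply hv₀
      have : ev 1 ∈ LinearMap.range ev := ⟨1, rfl⟩
      rw [h1] at this
      have h2 : ev 1 = v₀ := by rw [hev, map_one]; rfl
      rw [h2] at this
      exact this
    · exact h1
  have hsurj : Function.Surjective ev := LinearMap.range_eq_top.1 h2
  refine ⟨?_, hsurj⟩
  rw [← h.finrank_eq]
  exact (LinearEquiv.ofBijective ev ⟨hinj, hsurj⟩).finrank_eq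

theorem v1_aux (h : Prim t a l x) :
    (∀ c : V ≃ₗ[ZMod t] V, c * x = x * c → ∀ v : V, v ≠ 0 → c v = v → c = 1) ∧
    (∀ c d : V ≃ₗ[ZMod t] V, c * x = x * c → d * x = x * d → c * d = d * c) ∧
    (∀ z : V ≃ₗ[ZMod t] V, z * x * z⁻¹ ∈ Subgroup.zpowers x →
      ∃ i : ℕ, ∀ c : V ≃ₗ[ZMod t] V, c * x = x * c → z * c * z⁻¹ = c ^ (t ^ i)) ∧
    (∀ (s : V ≃ₗ[ZMod t] V) (q : ℕ), q.Prime → s ^ q = 1 → s * x * s⁻¹ ∈ Subgroup.zpowers x → s * x ≠ x * s →
      (∃ v : V, v ≠ 0 ∧ s v = v) → q ∣ a ∧ Nat.card {v : V // s v = v} = t ^ (a / q)) := by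
  haveI := h.nontrivial
  obtain ⟨L, _, _, _, ι, hcomm, hsurj, hinj⟩ := h.exists_field
  let D : FieldData x L := ⟨ι, hcomm, hsurj, hinj⟩
  have hι : Function.Injective ι := D.injective
  haveI := Fintype.ofFinite L
  have hlift : ∀ c : V ≃ₗ[ZMod t] V, c * x = x * c → ∃ f, ι f = (c : V →ₗ[ZMod t] V) := fun c hc =>
    hsurj _ (fun v => LinearEquiv.congr_fun hc v)
  refine ⟨?_, ?_, ?_, ?_⟩
  · intro c hc v hv hcv
    obtain ⟨f, hf⟩ := hlift c hc
    have h1 : f - 1 = 0 := hinj _ v hv (by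
      rw [map_sub, map_one, hf, LinearMap.sub_apply]
      exact sub_eq_zero.2 hcv)
    rw [sub_eq_zero] at h1
    apply LinearEquiv.ext
    intro w
    have := LinearMap.congr_fun hf w
    rw [h1, map_one] at this
    exact this.symm
  · intro c d hc hd
    obtain ⟨f, hf⟩ := hlift c hc
    obtain ⟨g, hg⟩ := hlift d hd
    apply LinearEquiv.ext
    intro v
    have h1 := LinearMap.congr_fun (congrArg ι (mul_comm f g)) v
    rw [map_mul, map_mul, hf, hg] at h1
    exact h1
  · intro z hz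
    obtain ⟨φ, hφ⟩ := exists_conj h D hz
    obtain ⟨i, hi⟩ := (FiniteField.bijective_frobeniusAlgHom_pow (ZMod t) L).2 φ
    refine ⟨i, fun c hc => ?_⟩
    obtain ⟨f, hf⟩ := hlift c hc
    have h1 : φ f = f ^ (t ^ (i : ℕ)) := by
      rw [← hi]
      change (FiniteField.frobeniusAlgHom (ZMod t) L ^ (i : ℕ)) f = _
      rw [AlgHom.coe_pow, FiniteField.coe_frobeniusAlgHom, pow_iterate, ZMod.card]
    have h2 : ∀ n : ℕ, ι (f ^ n) = ((c ^ n : V ≃ₗ[ZMod t] V) : V →ₗ[ZMod t] V) := by
      intro n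
      induction n with
      | zero => rw [pow_zero, pow_zero, map_one]; rfl
      | succ n ih => rw [pow_succ, pow_succ, map_mul, ih, hf]; rfl
    have h3 : z * c = c ^ (t ^ (i : ℕ)) * z := by
      apply LinearEquiv.ext
      intro v
      have h4 := hφ f v
      rw [h1] at h4
      change ι (f ^ t ^ (i : ℕ)) (z v) = z (ι f v) at h4
      rw [h2, hf] at h4
      exact h4.symm
    rw [h3, mul_assoc, mul_inv_cancel, mul_one]
  · intro s q hq hsq hs hne hfix
    obtain ⟨v₀, hv₀, hsv₀⟩ := hfix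
    obtain ⟨φ, hφ⟩ := exists_conj h D hs
    obtain ⟨hrank, hev⟩ := h.finrank_L D hv₀
    haveI : FiniteDimensional (ZMod t) L := inferInstance
    let ψ : Gal(L/ZMod t) := (Algebra.IsAlgebraic.algEquivEquivAlgHom (ZMod t) L).symm φ
    have hψ : ∀ f, ψ f = φ f := by
      intro f
      have : (Algebra.IsAlgebraic.algEquivEquivAlgHom (ZMod t) L) ψ = φ := MulEquiv.apply_symm_apply _ _
      rw [← this]
      rfl
    have hpow : ∀ (n : ℕ) f v, ι ((ψ ^ n) f) ((s ^ n) v) = (s ^ n) (ι f v) := by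
      intro n
      induction n with
      | zero => intro f v; rfl
      | succ n ih =>
        intro f v
        rw [pow_succ', pow_succ', AlgEquiv.mul_apply, LinearEquiv.mul_apply, LinearEquiv.mul_apply, hψ, ← ih f v]
        exact hφ _ _
    have hψq : ψ ^ q = 1 := by
      apply AlgEquiv.ext
      intro f
      apply hι
      apply LinearMap.ext
      intro v
      have := hpow q f v
      rw [hsq] at this
      exact this
    have hψ1 : ψ ≠ 1 := by
      intro h1
      apply hne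
      obtain ⟨ξ, hξ⟩ := hlift x rfl
      apply LinearEquiv.ext
      intro v
      have h2 := hφ ξ v
      rw [← hψ, h1] at h2
      change ι ξ (s v) = s (ι ξ v) at h2
      rw [hξ] at h2
      exact h2.symm
    have hord : orderOf ψ = q := by
      haveI : Fact q.Prime := ⟨hq⟩
      exact orderOf_eq_prime hψq hψ1
    let K := IntermediateField.fixedField (Subgroup.zpowers ψ)
    have hK : finrank K L = q := by
      rw [IntermediateField.finrank_fixedField_eq_card, Nat.card_zpowers, hord]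
    have htower : finrank (ZMod t) K * finrank K L = finrank (ZMod t) L := Module.finrank_mul_finrank _ _ _
    rw [hK, hrank] at htower
    have hdiv : q ∣ a := ⟨finrank (ZMod t) K, by rw [← htower, mul_comm]⟩
    refine ⟨hdiv, ?_⟩
    have hcardK : Nat.card K = t ^ (a / q) := by
      rw [Module.natCard_eq_pow_finrank (K := ZMod t), Nat.card_zmod, ← htower, Nat.mul_div_cancel _ hq.pos]
    rw [← hcardK]
    have hmemK : ∀ f : L, f ∈ K ↔ ψ f = f := by
      intro f
      rw [IntermediateField.mem_fixedField_iff]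
      constructor
      · intro h1
        exact h1 ψ (Subgroup.mem_zpowers ψ)
      · intro h1 τ hτ
        have : (Subgroup.zpowers ψ) ≤ MulAction.stabilizer (Gal(L/ZMod t)) f := by
          rw [Subgroup.zpowers_le]
          exact h1
        exact this hτ
    symm
    refine Nat.card_congr (Equiv.ofBijective (fun f : K => (⟨ι f v₀, ?_⟩ : {v : V // s v = v})) ⟨?_, ?_⟩)
    · have h1 := hφ (f : L) v₀
      rw [hsv₀, ← hψ, (hmemK _).1 f.2] at h1
      exact h1.symm
    · intro f g hfg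
      have h1 : ι (f : L) v₀ = ι (g : L) v₀ := congrArg Subtype.val hfg
      apply Subtype.ext
      apply sub_eq_zero.1
      apply hinj _ v₀ hv₀
      rw [map_sub, LinearMap.sub_apply, h1, sub_self]
    · rintro ⟨v, hv⟩
      obtain ⟨f, rfl⟩ := hev v
      change s (ι f v₀) = ι f v₀ at hv
      have h1 := hφ f v₀
      rw [hsv₀] at h1
      change ι (φ f) v₀ = s (ι f v₀) at h1
      rw [hv, ← hψ] at h1
      have h2 : ψ f = f := by
        apply sub_eq_zero.1
        apply hinj _ v₀ hv₀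
        rw [map_sub, LinearMap.sub_apply, h1, sub_self]
      exact ⟨⟨f, (hmemK f).2 h2⟩, rfl⟩

/-- Task v1. -/
theorem v1 {t a l : ℕ} [Fact t.Prime] (hl : l.Prime) (ha : 0 < a) (hdvd : l ∣ t ^ a - 1)
    (hprim : ∀ i, 0 < i → i < a → ¬ l ∣ t ^ i - 1)
    {V : Type*} [AddCommGroup V] [Module (ZMod t) V] [Finite V] (hV : Nat.card V = t ^ a)
    (x : V ≃ₗ[ZMod t] V) (hx : orderOf x = l) :
    (∀ c : V ≃ₗ[ZMod t] V, c * x = x * c → ∀ v : V, v ≠ 0 → c v = v → c = 1) ∧
    (∀ c d : V ≃ₗ[ZMod t] V, c * x = x * c → d * x = x * d → c * d = d * c) ∧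
    (∀ z : V ≃ₗ[ZMod t] V, z * x * z⁻¹ ∈ Subgroup.zpowers x →
      ∃ i : ℕ, ∀ c : V ≃ₗ[ZMod t] V, c * x = x * c → z * c * z⁻¹ = c ^ (t ^ i)) ∧
    (∀ (s : V ≃ₗ[ZMod t] V) (q : ℕ), q.Prime → s ^ q = 1 → s * x * s⁻¹ ∈ Subgroup.zpowers x → s * x ≠ x * s →
      (∃ v : V, v ≠ 0 ∧ s v = v) → q ∣ a ∧ Nat.card {v : V // s v = v} = t ^ (a / q)) :=
  v1_aux ⟨hl, ha, hdvd, hprim, hV, hx⟩

end Cfsg.Agent.H746.PrimElem
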