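import Cfsg.Agent.H50.HerMain
import Cfsg.Agent.H348.Trans.Final

/-!
# Hering's theorem: the semilinear case (helper746, task of helper50)
-/

set_option autoImplicit false

namespace Cfsg.Agent.H746.Her

open Cfsg Cfsg.Agent.H50.Her Module

universe u

variable {p : ℕ} [hp : Fact p.Prime] {V : Type u} [AddCommGroup V] [Module (ZMod p) V] [Finite V] [Nontrivial V]
  {G A B L : Subgroup (V ≃ₗ[ZMod p] V)} {ℓ : ℕ}

theorem semi_out (htr : ∀ v w : V, v ≠ 0 → w ≠ 0 → ∃ g ∈ G, g v = w) (hA : MaxAb G A)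
    (h : G ⊓ Subgroup.centralizer (A : Set (V ≃ₗ[ZMod p] V)) = A) : SemiOut p V G := by
  have hn : (A.subgroupOf G).Normal := by
    refine ⟨fun n hn g => ?_⟩
    rw [Subgroup.mem_subgroupOf] at hn ⊢
    exact hA.nor g g.2 n hn
  have hc : IsMulCommutative (A.subgroupOf G) := by
    refine ⟨⟨fun a b => ?_⟩⟩
    apply Subtype.ext
    apply Subtype.ext
    exact hA.com _ (Subgroup.mem_subgroupOf.1 a.2) _ (Subgroup.mem_subgroupOf.1 b.2)
  obtain ⟨_, K, _, _, _, _, S, hS⟩ := Cfsg.Agent.H348.Trans.exists_setup G htr (A.subgroupOf G) hn hc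
  have h1 : finrank K V = 1 := by
    apply S.finrank_eq_one
    rw [hS]
    ext g
    rw [Subgroup.mem_centralizer_iff, Subgroup.mem_subgroupOf]
    constructor
    · intro hg
      rw [← h, Subgroup.mem_inf, Subgroup.mem_centralizer_iff]
      exact ⟨g.2, fun a ha => congrArg Subtype.val (hg ⟨a, hA.le ha⟩ (Subgroup.mem_subgroupOf.2 ha))⟩
    · intro hg a ha
      apply Subtype.ext
      exact hA.com _ (Subgroup.mem_subgroupOf.1 ha) _ hg
  obtain ⟨F, hf1, hf2, e, he⟩ := S.semilinear h1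
  exact ⟨F, hf1, hf2, e, fun g hg => he ⟨g, hg⟩⟩

end Cfsg.Agent.H746.Her
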