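import Cfsg.Agent.H704.Branch

/-!
# The branching bound for the degrees of the symmetric groups (helper746, for S4941)
-/

set_option autoImplicit false

namespace Cfsg.Agent.H746.Corners

open Finset Cfsg.Agent.H704 Cfsg.Agent.H614

/-- `c` distinct positive integers have sum at least `c (c + 1) / 2`. -/
theorem card_mul_le (s : Finset ℕ) (h : ∀ a ∈ s, 0 < a) : s.card * (s.card + 1) ≤ 2 * ∑ a ∈ s, a := by
  induction s using Finset.induction_on_max with
  | empty => simp
  | insert a s ha ih =>
    have hna : a ∉ s := fun hm => lt_irrefl _ (ha a hm)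
    rw [Finset.card_insert_of_notMem hna, Finset.sum_insert hna]
    have ih' := ih fun b hb => h b (Finset.mem_insert_of_mem hb)
    have hsub : s ⊆ Finset.Ioo 0 a := fun b hb => Finset.mem_Ioo.2 ⟨h b (Finset.mem_insert_of_mem hb), ha b hb⟩
    have hc := Finset.card_le_card hsub
    rw [Nat.card_Ioo] at hc
    have ha0 := h a (Finset.mem_insert_self _ _)
    have : s.card + 1 ≤ a := by omega
    nlinarith

theorem deg_le_corners {n d : ℕ} (h : IsDeg (n + 1) d) :
    ∃ c e : ℕ, c * (c + 1) ≤ 2 * (n + 1) ∧ IsDeg n e ∧ d ≤ c * e := by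
  classical
  obtain ⟨l, hl, hd⟩ := h
  obtain ⟨β, h1, h2⟩ := exists_tuple hl.sorted
  have h6 := sum_tuple h1 h2 hl.sum
  have h7 := deg_unique h1 h2 hl.sum hd
  rw [Multiset.replicate_succ, FM_cons] at h7
  set C : Finset (Fin l.length) := univ.filter fun j => 1 ≤ β j ∧ Function.Injective (dn β j 1) with hC
  have hmem : ∀ j, j ∈ C ↔ (1 ≤ β j ∧ Function.Injective (dn β j 1)) := fun j => by simp [hC]
  have hex : ∀ j : Fin l.length, ∃ e : ℕ, j ∈ C → ((e : ℤ) = FM (Multiset.replicate n 1) (dn β j 1) ∧ IsDeg n e) := by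
    intro j
    by_cases hj : j ∈ C
    · obtain ⟨hj1, hj2⟩ := (hmem j).1 hj
      obtain ⟨e, he⟩ := isDeg_of_tuple (n := n) (strictMono_dn h1 hj1 hj2) (by have := sum_dn β j hj1; omega)
      exact ⟨e, fun _ => he⟩
    · exact ⟨0, fun h => absurd h hj⟩
  choose e he using hex
  have h8 : (d : ℤ) = ∑ j ∈ C, (e j : ℤ) := by
    rw [h7, ← Finset.sum_subset (Finset.subset_univ C)]
    · refine Finset.sum_congr rfl fun j hj => ?_
      rw [if_pos ((hmem j).1 hj).1, (he j hj).1]
    · intro j _ hj
      split_ifs with hj1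
      · refine (FM_alt _).eq_zero_of_not_injective two_torsion_int fun hinj => hj ((hmem j).2 ⟨hj1, hinj⟩)
      · rfl
  have h9 : d = ∑ j ∈ C, e j := by exact_mod_cast h8
  have hd0 : 0 < d := by
    rcases Nat.eq_zero_or_pos d with h0 | h0
    · rw [h0, zero_mul] at hd
      exact absurd hd (Nat.factorial_pos _).ne
    · exact h0
  have hne : C.Nonempty := by
    rw [Finset.nonempty_iff_ne_empty]
    intro h0
    rw [h0, Finset.sum_empty] at h9
    omega
  obtain ⟨j0, hj0, hmax⟩ := Finset.exists_max_image C e hne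
  refine ⟨C.card, e j0, ?_, (he j0 hj0).2, ?_⟩
  · have hle : ∀ i : Fin l.length, (i : ℕ) ≤ β i := strictMono_le h1
    have hpos : ∀ j ∈ C, (j : ℕ) < β j := by
      intro j hj
      obtain ⟨hj1, hj2⟩ := (hmem j).1 hj
      rcases lt_or_eq_of_le (hle j) with h0 | h0
      · exact h0
      · exfalso
        have hj3 : (j : ℕ) ≠ 0 := by omega
        have hk : (⟨j - 1, by omega⟩ : Fin l.length) < j := by rw [Fin.lt_def]; simp only; omega
        have hk1 := h1 hk
        have hk2 := hle ⟨j - 1, by omega⟩
        simp only at hk2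
        have hkne := hk.ne
        apply hkne
        apply hj2
        rw [dn_ne _ _ hkne, dn_self]
        omega
    have hmono : ∀ j ∈ C, ∀ k ∈ C, j < k → β j - (j : ℕ) < β k - (k : ℕ) := by
      intro j hj k hk hjk
      obtain ⟨hk1, hk2⟩ := (hmem k).1 hk
      have hjk' : (j : ℕ) < k := hjk
      have e1 : (⟨k - 1, by omega⟩ : Fin l.length) < k := by rw [Fin.lt_def]; simp only; omega
      have e2 := h1 e1
      have e3 : β ⟨k - 1, by omega⟩ ≠ β k - 1 := by
        intro h0
        apply e1.ne
        apply hk2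
        rw [dn_ne _ _ e1.ne, dn_self, h0]
      -- β j - j ≤ β (k-1) - (k-1)
      have e4 : ∀ t : ℕ, ∀ ht : (j : ℕ) + t < l.length, β j + t ≤ β ⟨j + t, ht⟩ := by
        intro t
        induction t with
        | zero => intro ht; exact le_rfl
        | succ t ih =>
          intro ht
          have i1 := ih (by omega)
          have i2 : (⟨j + t, by omega⟩ : Fin l.length) < ⟨j + (t + 1), ht⟩ := by
            rw [Fin.lt_def]; simp only; omega
          have i3 := h1 i2
          omega
      have e5 := e4 (k - 1 - j) (by omega)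
      have e6 : (⟨(j : ℕ) + (k - 1 - j), by omega⟩ : Fin l.length) = ⟨k - 1, by omega⟩ := by
        apply Fin.ext; simp only; omega
      rw [e6] at e5
      have := hle j
      have := hle k
      have := hpos k hk
      omega
    have hinj : Set.InjOn (fun j : Fin l.length => β j - (j : ℕ)) C := by
      intro j hj k hk hjk
      simp only at hjk
      rcases lt_trichotomy j k with h0 | h0 | h0
      · exact absurd hjk (hmono j hj k hk h0).ne
      · exact h0
      · exact absurd hjk (hmono k hk j hj h0).ne'
    have key := card_mul_le (C.image fun j => β j - (j : ℕ)) (by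
      intro a ha
      obtain ⟨j, hj, rfl⟩ := Finset.mem_image.1 ha
      have := hpos j hj
      omega)
    rw [Finset.card_image_of_injOn hinj, Finset.sum_image hinj] at key
    refine key.trans (Nat.mul_le_mul_left 2 ?_)
    calc ∑ j ∈ C, (β j - (j : ℕ)) ≤ ∑ j, (β j - (j : ℕ)) :=
          Finset.sum_le_sum_of_subset (Finset.subset_univ C)
      _ ≤ n + 1 := by
          have : ∑ j, (β j - (j : ℕ)) + ∑ i : Fin l.length, (i : ℕ) = ∑ j, β j := by
            rw [← Finset.sum_add_distrib]
            refine Finset.sum_congr rfl fun j _ => ?_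
            have := hle j
            omega
          omega
  · rw [h9]
    calc ∑ j ∈ C, e j ≤ ∑ j ∈ C, e j0 := Finset.sum_le_sum hmax
      _ = C.card * e j0 := by rw [Finset.sum_const, smul_eq_mul]

end Cfsg.Agent.H746.Corners
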