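import Mathlib

/-!
# Minimal coprime automorphisms of `u`-groups (helper746)

`MinAut u l ξ` : `ξ` is a nontrivial automorphism of the finite `u`-group `H` with `ξ ^ l = 1`, `l ≠ u` prime,
acting trivially on all proper invariant subgroups.
-/

set_option autoImplicit false
set_option linter.style.haveILetI false
set_option linter.unusedSectionVars false

namespace Cfsg.Agent.H746.MinAut

open scoped commutatorElement

theorem modEq_fixed {α : Type*} [Finite α] {l : ℕ} (hl : l.Prime) (f : α → α) (hf : ∀ y, f^[l] y = y) :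
    Nat.card α ≡ Nat.card {y : α // f y = y} [MOD l] := by
  classical
  haveI : Fact l.Prime := ⟨hl⟩
  haveI := Fintype.ofFinite α
  let g : Function.End α := f
  have hg : g ^ l ^ 1 = 1 := by
    rw [pow_one]
    funext y
    have : ∀ n : ℕ, (g ^ n) y = f^[n] y := by
      intro n
      induction n with
      | zero => rfl
      | succ n ih => rw [pow_succ', Function.iterate_succ_apply', ← ih]; rfl
    rw [this, hf]
    rfl
  have h := Equiv.Perm.card_fixedPoints_modEq hg
  rw [Nat.card_eq_fintype_card]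
  have h2 : Nat.card {y : α // f y = y} = Fintype.card g.fixedPoints := by
    rw [← Nat.card_eq_fintype_card]
    rfl
  rw [h2]
  exact h

variable {H : Type*} [Group H] [Finite H] {u l : ℕ} {ξ : H ≃* H}

/-- Minimal coprime automorphisms. -/
structure MinA (u l : ℕ) (ξ : H ≃* H) : Prop where
  hu : u.Prime
  hl : l.Prime
  hul : u ≠ l
  p : IsPGroup u H
  pow : ∀ b, (⇑ξ)^[l] b = b
  ne : ∃ b, ξ b ≠ b
  min : ∀ Y : Subgroup H, Y ≠ ⊤ → (∀ y ∈ Y, ξ y ∈ Y) → ∀ y ∈ Y, ξ y = y

theorem MinA.eq_one (h : MinA u l ξ) {b e : H} (hb : ξ b = b * e) (he : ξ e = e) : e = 1 := by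
  have h1 : ∀ k : ℕ, (⇑ξ)^[k] b = b * e ^ k := by
    intro k
    induction k with
    | zero => rw [pow_zero, mul_one]; rfl
    | succ k ih => rw [Function.iterate_succ_apply', ih, map_mul, map_pow, he, hb, mul_assoc, ← pow_succ']
  have h2 := h1 l
  rw [h.pow] at h2
  have h3 : e ^ l = 1 := by
    have := h2.symm
    rwa [mul_eq_left] at this
  haveI : Fact u.Prime := ⟨h.hu⟩
  obtain ⟨j, hj⟩ := (IsPGroup.iff_orderOf.1 h.p) e
  have h4 : orderOf e ∣ l := orderOf_dvd_of_pow_eq_one h3
  rw [hj] at h4
  rcases (Nat.dvd_prime h.hl).1 h4 with h5 | h5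
  · rw [h5] at hj
    exact orderOf_eq_one_iff.1 hj
  · exfalso
    apply h.hul
    have h6 : u ∣ l := by
      rcases Nat.eq_zero_or_pos j with h7 | h7
      · rw [h7, pow_zero] at h5
        exact absurd h5.symm h.hl.one_lt.ne'
      · rw [← h5]; exact dvd_pow_self _ h7.ne'
    exact (Nat.prime_dvd_prime_iff_eq h.hu h.hl).1 h6

theorem MinA.eq_top (h : MinA u l ξ) {N : Subgroup H} (hinv : ∀ y ∈ N, ξ y ∈ N) (hN : ∀ b, b⁻¹ * ξ b ∈ N) : N = ⊤ := by
  by_contra hne
  have h1 := h.min N hne hinv
  obtain ⟨b, hb⟩ := h.ne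
  apply hb
  have h2 : b⁻¹ * ξ b = 1 := h.eq_one (b := b) (by rw [mul_inv_cancel_left]) (h1 _ (hN b))
  exact (inv_mul_eq_one.1 h2).symm

theorem MinA.le_center (h : MinA u l ξ) {Y : Subgroup H} [hn : Y.Normal] (hY : Y ≠ ⊤) (hinv : ∀ y ∈ Y, ξ y ∈ Y) :
    Y ≤ Subgroup.center H := by
  have h1 := h.min Y hY hinv
  have h2 : Subgroup.centralizer (Y : Set H) = ⊤ := by
    apply h.eq_top
    · intro c hc
      rw [Subgroup.mem_centralizer_iff] at hc ⊢
      intro y hy
      have := hc y hy
      have h3 := congrArg ξ this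
      rwa [map_mul, map_mul, h1 y hy] at h3
    · intro b
      rw [Subgroup.mem_centralizer_iff]
      intro y hy
      have h3 : ξ (b * y * b⁻¹) = b * y * b⁻¹ := h1 _ (hn.conj_mem y hy b)
      rw [map_mul, map_mul, map_inv, h1 y hy] at h3
      -- ξ b * y * (ξ b)⁻¹ = b * y * b⁻¹
      have h4 : ξ b * y = b * y * b⁻¹ * ξ b := by rw [← h3]; group
      calc y * (b⁻¹ * ξ b) = b⁻¹ * (b * y * b⁻¹ * ξ b) := by group
        _ = b⁻¹ * (ξ b * y) := by rw [h4]
        _ = b⁻¹ * ξ b * y := by group
  intro y hy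
  rw [Subgroup.mem_center_iff]
  intro g
  have h3 : g ∈ Subgroup.centralizer (Y : Set H) := by rw [h2]; trivial
  exact ((Subgroup.mem_centralizer_iff.1 h3) y hy).symm

theorem MinA.nontrivial (h : MinA u l ξ) : Nontrivial H := by
  obtain ⟨b, hb⟩ := h.ne
  exact ⟨ξ b, b, hb⟩

theorem MinA.commutator_le (h : MinA u l ξ) : commutator H ≤ Subgroup.center H := by
  haveI := h.nontrivial
  haveI : Fact u.Prime := ⟨h.hu⟩
  haveI : Group.IsNilpotent H := h.p.isNilpotent
  haveI : Group.IsSolvable H := inferInstance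
  apply h.le_center
  · exact (Group.IsSolvable.commutator_lt_top_of_nontrivial H).ne
  · intro y hy
    have h1 : (commutator H).comap ξ.toMonoidHom = commutator H := Subgroup.Characteristic.fixed inferInstance ξ
    have : y ∈ (commutator H).comap ξ.toMonoidHom := by rw [h1]; exact hy
    exact this

theorem MinA.fix_center (h : MinA u l ξ) (hna : Subgroup.center H ≠ ⊤) {z : H} (hz : z ∈ Subgroup.center H) :
    ξ z = z := by
  apply h.min _ hna _ z hz
  intro y hy
  have h1 : (Subgroup.center H).comap ξ.toMonoidHom = Subgroup.center H := Subgroup.Characteristic.fixed inferInstance ξ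
  have : y ∈ (Subgroup.center H).comap ξ.toMonoidHom := by rw [h1]; exact hy
  exact this

/-- A subgroup containing the center is normal. -/
theorem normal_of_center_le (hc : commutator H ≤ Subgroup.center H) {Y : Subgroup H} (hY : Subgroup.center H ≤ Y) :
    Y.Normal := by
  refine ⟨fun y hy g => ?_⟩
  have h1 : ⁅g, y⁆ ∈ Y := hY (hc (Subgroup.commutator_mem_commutator (Subgroup.mem_top g) (Subgroup.mem_top y)))
  have h2 : g * y * g⁻¹ = ⁅g, y⁆ * y := by rw [commutatorElement_def]; group
  rw [h2]
  exact Y.mul_mem h1 hy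

theorem MinA.mem_center_of_fix (h : MinA u l ξ) (hna : Subgroup.center H ≠ ⊤) {b : H} (hb : ξ b = b) :
    b ∈ Subgroup.center H := by
  let Y : Subgroup H :=
    { carrier := {b | ξ b = b}
      one_mem' := map_one ξ
      mul_mem' := fun {a b} ha hb => by
        change ξ (a * b) = a * b
        rw [map_mul, ha, hb]
      inv_mem' := fun {a} ha => by
        change ξ a⁻¹ = a⁻¹
        rw [map_inv, ha] }
  have hZ : Subgroup.center H ≤ Y := fun z hz => h.fix_center hna hz
  haveI : Y.Normal := normal_of_center_le h.commutator_le hZ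
  have hY : Y ≠ ⊤ := by
    intro htop
    obtain ⟨c, hc⟩ := h.ne
    have : c ∈ Y := by rw [htop]; trivial
    exact hc this
  exact h.le_center hY (fun y hy => by
    have : ξ y = y := hy
    rw [this]; exact hy) hb

theorem MinA.card_modEq (h : MinA u l ξ) (hna : Subgroup.center H ≠ ⊤) :
    Nat.card (H ⧸ Subgroup.center H) ≡ 1 [MOD l] := by
  have hmap : (Subgroup.center H) ≤ (Subgroup.center H).comap ξ.toMonoidHom := by
    rw [Subgroup.Characteristic.fixed inferInstance ξ]
  let f : H ⧸ Subgroup.center H →* H ⧸ Subgroup.center H := QuotientGroup.map _ _ ξ.toMonoidHom hmap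
  have hf : ∀ b : H, f (b : H ⧸ Subgroup.center H) = ((ξ b : H) : H ⧸ Subgroup.center H) := fun b => rfl
  have h1 := modEq_fixed h.hl (fun q => f q) (by
    intro q
    obtain ⟨b, rfl⟩ := QuotientGroup.mk_surjective q
    have : ∀ n : ℕ, (fun q => f q)^[n] (b : H ⧸ Subgroup.center H) = (((⇑ξ)^[n] b : H) : H ⧸ Subgroup.center H) := by
      intro n
      induction n with
      | zero => rfl
      | succ n ih => rw [Function.iterate_succ_apply', ih, Function.iterate_succ_apply', hf]
    rw [this, h.pow])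
  have h2 : Nat.card {q : H ⧸ Subgroup.center H // f q = q} = 1 := by
    rw [Nat.card_eq_one_iff_unique]
    refine ⟨⟨fun y z => ?_⟩, ⟨⟨1, map_one f⟩⟩⟩
    have key : ∀ y : {q : H ⧸ Subgroup.center H // f q = q}, y.1 = 1 := by
      rintro ⟨q, hq⟩
      obtain ⟨b, rfl⟩ := QuotientGroup.mk_surjective q
      rw [hf] at hq
      change (b : H ⧸ Subgroup.center H) = 1
      rw [QuotientGroup.eq_one_iff]
      have h3 : b⁻¹ * ξ b ∈ Subgroup.center H := QuotientGroup.eq.1 hq.symm
      have h4 : b⁻¹ * ξ b = 1 := h.eq_one (b := b) (by rw [mul_inv_cancel_left]) (h.fix_center hna h3)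
      exact h.mem_center_of_fix hna (inv_mul_eq_one.1 h4).symm
    apply Subtype.ext
    rw [key, key]
  rw [h2] at h1
  exact h1

/-- A maximal abelian subgroup. -/
theorem exists_maxab (H : Type*) [Group H] [Finite H] : ∃ A : Subgroup H, Subgroup.center H ≤ A ∧
    (∀ a ∈ A, ∀ b ∈ A, a * b = b * a) ∧ ∀ b, (∀ a ∈ A, a * b = b * a) → b ∈ A := by
  let P : Subgroup H → Prop := fun A => Subgroup.center H ≤ A ∧ ∀ a ∈ A, ∀ b ∈ A, a * b = b * a
  have h0 : P (Subgroup.center H) := ⟨le_rfl, fun a _ b hb => (Subgroup.mem_center_iff.1 hb) a⟩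
  haveI : Finite (Subgroup H) := inferInstance
  obtain ⟨A, hA, hmax⟩ := (Set.toFinite {A | P A}).exists_maximal ⟨_, h0⟩
  refine ⟨A, hA.1, hA.2, fun b hb => ?_⟩
  let A' : Subgroup H := A ⊔ Subgroup.zpowers b
  have h1 : P A' := by
    refine ⟨hA.1.trans le_sup_left, ?_⟩
    have h2 : A' ≤ Subgroup.centralizer (A : Set H) := by
      refine sup_le ?_ ?_
      · intro c hc
        rw [Subgroup.mem_centralizer_iff]
        intro d hd
        exact hA.2 d hd c hc
      · rw [Subgroup.zpowers_le, Subgroup.mem_centralizer_iff]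
        exact hb
    have h3 : b ∈ Subgroup.centralizer (A' : Set H) := by
      have h4 : A' ≤ Subgroup.centralizer ({b} : Set H) := by
        refine sup_le ?_ ?_
        · intro c hc
          rw [Subgroup.mem_centralizer_iff]
          rintro _ rfl
          exact (hb c hc).symm
        · rw [Subgroup.zpowers_le, Subgroup.mem_centralizer_iff]
          rintro _ rfl
          rfl
      rw [Subgroup.mem_centralizer_iff]
      intro c hc
      exact ((Subgroup.mem_centralizer_iff.1 (h4 hc)) b rfl).symm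
    have h5 : A' ≤ Subgroup.centralizer (A' : Set H) := by
      refine sup_le ?_ ?_
      · intro c hc
        rw [Subgroup.mem_centralizer_iff]
        intro d hd
        exact ((Subgroup.mem_centralizer_iff.1 (h2 hd)) c hc).symm
      · rw [Subgroup.zpowers_le]
        exact h3
    intro c hc d hd
    exact (Subgroup.mem_centralizer_iff.1 (h5 hd)) c hc
  have h6 : A' ≤ A := hmax h1 le_sup_left
  exact h6 (Subgroup.mem_sup_right (Subgroup.mem_zpowers b))

/-- Number of characters with values in a field. -/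
theorem card_le_of_characters {P G : Type*} [Finite P] [Group G] [Finite G] {L : Type*} [Field L]
    (g : P → (G →* L)) (hg : Function.Injective g) : Nat.card P ≤ Nat.card G := by
  haveI := Fintype.ofFinite P
  haveI := Fintype.ofFinite G
  have h1 := (linearIndependent_monoidHom G L).comp g hg
  have h2 := h1.fintype_card_le_finrank
  rw [Module.finrank_fintype_fun_eq_card] at h2
  rwa [Nat.card_eq_fintype_card, Nat.card_eq_fintype_card]

/-- The commutator map in its second variable. -/
def cmR (hc : commutator H ≤ Subgroup.center H) (b : H) : H →* Subgroup.center H where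
  toFun c := ⟨⁅b, c⁆, hc (Subgroup.commutator_mem_commutator (Subgroup.mem_top b) (Subgroup.mem_top c))⟩
  map_one' := by apply Subtype.ext; simp
  map_mul' c d := by
    apply Subtype.ext
    have h1 : ⁅b, d⁆ ∈ Subgroup.center H :=
      hc (Subgroup.commutator_mem_commutator (Subgroup.mem_top b) (Subgroup.mem_top d))
    have h2 := (Subgroup.mem_center_iff.1 h1) c
    change ⁅b, c * d⁆ = ⁅b, c⁆ * ⁅b, d⁆
    have h3 : ⁅b, c * d⁆ = ⁅b, c⁆ * (c * ⁅b, d⁆ * c⁻¹) := by
      simp only [commutatorElement_def]; group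
    rw [h3, h2, mul_inv_cancel_right]

theorem cmR_coe (hc : commutator H ≤ Subgroup.center H) (b c : H) : ((cmR hc b c : Subgroup.center H) : H) = ⁅b, c⁆ :=
  rfl

theorem cmR_eq_iff (hc : commutator H ≤ Subgroup.center H) (b b' c : H) :
    cmR hc b c = cmR hc b' c ↔ c * (b⁻¹ * b') = (b⁻¹ * b') * c := by
  rw [← Subtype.coe_inj, cmR_coe, cmR_coe, commutatorElement_def, commutatorElement_def]
  constructor
  · intro h
    have h1 : b * c * b⁻¹ = b' * c * b'⁻¹ := mul_right_cancel h
    calc c * (b⁻¹ * b') = b⁻¹ * (b * c * b⁻¹) * b' := by group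
      _ = b⁻¹ * (b' * c * b'⁻¹) * b' := by rw [h1]
      _ = _ := by group
  · intro h
    have h1 : b * c * b⁻¹ = b' * c * b'⁻¹ := by
      calc b * c * b⁻¹ = b * (c * (b⁻¹ * b')) * b'⁻¹ := by group
        _ = b * ((b⁻¹ * b') * c) * b'⁻¹ := by rw [h]
        _ = _ := by group
    rw [h1]

/-- The index of a maximal abelian subgroup. -/
theorem index_eq (hc : commutator H ≤ Subgroup.center H) {L : Type*} [Field L] (lam : Subgroup.center H →* L)
    (hlam : Function.Injective lam) {A : Subgroup H} (hZ : Subgroup.center H ≤ A)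
    (hA : ∀ a ∈ A, ∀ b ∈ A, a * b = b * a) (hmax : ∀ b, (∀ a ∈ A, a * b = b * a) → b ∈ A) :
    Nat.card (H ⧸ A) = Nat.card (A ⧸ (Subgroup.center H).subgroupOf A) := by
  haveI : A.Normal := normal_of_center_le hc hZ
  apply le_antisymm
  · -- the characters `a ↦ [b, a]` of `A / Z`
    have hker : ∀ b : H, (Subgroup.center H).subgroupOf A ≤ ((lam.comp (cmR hc b)).comp A.subtype).ker := by
      intro b z hz
      have hz' : (z : H) ∈ Subgroup.center H := hz
      rw [MonoidHom.mem_ker]
      change lam (cmR hc b z) = 1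
      have : cmR hc b z = 1 := by
        apply Subtype.ext
        rw [cmR_coe]
        exact commutatorElement_eq_one_iff_mul_comm.2 ((Subgroup.mem_center_iff.1 hz') b)
      rw [this, map_one]
    let g : H ⧸ A → ((A ⧸ (Subgroup.center H).subgroupOf A) →* L) := fun q =>
      QuotientGroup.lift _ ((lam.comp (cmR hc q.out)).comp A.subtype) (hker q.out)
    apply card_le_of_characters g
    intro q q' hqq
    have h1 : q.out⁻¹ * q'.out ∈ A := by
      apply hmax
      intro a ha
      have h2 := DFunLike.congr_fun hqq ((⟨a, ha⟩ : A) : A ⧸ (Subgroup.center H).subgroupOf A)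
      change lam (cmR hc q.out a) = lam (cmR hc q'.out a) at h2
      exact (cmR_eq_iff hc _ _ _).1 (hlam h2)
    have h3 : (q.out : H ⧸ A) = (q'.out : H ⧸ A) := QuotientGroup.eq.2 h1
    rwa [QuotientGroup.out_eq', QuotientGroup.out_eq'] at h3
  · have hker : ∀ a : A, A ≤ (lam.comp (cmR hc a)).ker := by
      intro a z hz
      rw [MonoidHom.mem_ker]
      change lam (cmR hc a z) = 1
      have : cmR hc a z = 1 := by
        apply Subtype.ext
        rw [cmR_coe]
        exact commutatorElement_eq_one_iff_mul_comm.2 (hA a a.2 z hz)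
      rw [this, map_one]
    let g : (A ⧸ (Subgroup.center H).subgroupOf A) → (H ⧸ A →* L) := fun q =>
      QuotientGroup.lift _ (lam.comp (cmR hc (q.out : A))) (hker q.out)
    apply card_le_of_characters g
    intro q q' hqq
    have h1 : (q.out)⁻¹ * q'.out ∈ (Subgroup.center H).subgroupOf A := by
      rw [Subgroup.mem_subgroupOf, Subgroup.mem_center_iff]
      intro c
      have h2 := DFunLike.congr_fun hqq (c : H ⧸ A)
      change lam (cmR hc (q.out : A) c) = lam (cmR hc (q'.out : A) c) at h2
      exact (cmR_eq_iff hc _ _ _).1 (hlam h2)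
    have h3 := QuotientGroup.eq.2 h1
    rwa [QuotientGroup.out_eq', QuotientGroup.out_eq'] at h3

/-- The index of the center is a square. -/
theorem exists_sq (hc : commutator H ≤ Subgroup.center H) {L : Type*} [Field L] (lam : Subgroup.center H →* L)
    (hlam : Function.Injective lam) : ∃ M : ℕ, Nat.card (H ⧸ Subgroup.center H) = M * M ∧ M ∣ Nat.card H := by
  obtain ⟨A, hZ, hA, hmax⟩ := exists_maxab H
  have h1 := index_eq hc lam hlam hZ hA hmax
  refine ⟨Nat.card (H ⧸ A), ?_, ?_⟩
  · have h2 : (Subgroup.center H).relIndex A * A.index = (Subgroup.center H).index :=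
      Subgroup.relIndex_mul_index hZ
    have h3 : (Subgroup.center H).relIndex A = Nat.card (H ⧸ A) := by
      rw [h1]; rfl
    rw [h3] at h2
    exact h2.symm
  · exact A.index_dvd_card

end Cfsg.Agent.H746.MinAut
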